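import Mathlib
import Groth.Agent.H11.TotalFracNormal

/-!
# The total ring of fractions of a reduced ring with finitely many minimal primes is Artinian
-/

set_option autoImplicit false

namespace Groth.Agent.H78.TotFrac

universe u

/-- A reduced zero-dimensional ring with finitely many primes is Artinian (a finite product of
fields). -/
theorem isArtinianRing_of_reduced_of_finite (K : Type u) [CommRing K] [IsReduced K]
    [Ring.KrullDimLE 0 K] [Finite (PrimeSpectrum K)] : IsArtinianRing K := by
  let f : PrimeSpectrum K → Ideal K := fun p => p.asIdeal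
  haveI hmax : ∀ p : PrimeSpectrum K, (f p).IsMaximal := fun p =>
    Ring.krullDimLE_zero_iff.mp inferInstance p.asIdeal p.isPrime
  have hcop : Pairwise (Function.onFun IsCoprime f) := by
    intro p p' hpp'
    change IsCoprime (f p) (f p')
    rw [Ideal.isCoprime_iff_sup_eq]
    apply Ideal.IsMaximal.coprime_of_ne (hmax p) (hmax p')
    intro h
    exact hpp' (PrimeSpectrum.ext h)
  have hinf : ⨅ p, f p = ⊥ := by
    rw [eq_bot_iff]
    intro x hx
    rw [Ideal.mem_iInf] at hx
    have hnil : IsNilpotent x := by
      rw [nilpotent_iff_mem_prime]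
      intro J hJ
      exact hx ⟨J, hJ⟩
    rw [Ideal.mem_bot]
    exact hnil.eq_zero
  let e₁ : (K ⧸ ⨅ p, f p) ≃+* ∀ p, K ⧸ f p := Ideal.quotientInfRingEquivPiQuotient f hcop
  let e₂ : K ≃+* (K ⧸ ⨅ p, f p) :=
    (RingEquiv.quotientBot K).symm.trans (Ideal.quotEquivOfEq hinf.symm)
  letI : ∀ p : PrimeSpectrum K, Field (K ⧸ f p) := fun p => Ideal.Quotient.field (f p)
  haveI : IsArtinianRing (∀ p, K ⧸ f p) := inferInstance
  exact RingEquiv.isArtinianRing (e₂.trans e₁).symm

variable {A : Type u} [CommRing A] [IsReduced A]

/-- In a reduced ring with finitely many minimal primes, a prime containing no non-zero-divisor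
is a minimal prime. -/
theorem mem_minimalPrimes_of_disjoint (hmin : (minimalPrimes A).Finite)
    (p : Ideal A) [hp : p.IsPrime] (hd : Disjoint (p : Set A) (nonZeroDivisors A : Set A)) :
    p ∈ minimalPrimes A := by
  classical
  have hsub : (p : Set A) ⊆ ⋃ i ∈ (hmin.toFinset : Set (Ideal A)), (id i : Ideal A) := by
    intro a ha
    have hnz : a ∉ nonZeroDivisors A := fun h => Set.disjoint_left.mp hd ha h
    by_contra hcon
    apply hnz
    apply Groth.Agent.H11.TotalFracNormal.mem_nonZeroDivisors_of_forall_notMem
    intro q hq haq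
    apply hcon
    simp only [Set.mem_iUnion]
    exact ⟨q, by simpa using hq, haq⟩
  obtain ⟨q, hq, hpq⟩ := (Ideal.subset_union_prime (f := id) (s := hmin.toFinset) p p (by
    intro i hi _ _
    exact ((hmin.mem_toFinset).mp hi).1.1)).mp hsub
  have hq' : q ∈ minimalPrimes A := (hmin.mem_toFinset).mp hq
  have : p = q := le_antisymm hpq (hq'.2 ⟨hp, bot_le⟩ hpq)
  rw [this]
  exact hq'

/-- The total ring of fractions of a reduced ring with finitely many minimal primes is
Artinian. -/
theorem isArtinianRing_of_isLocalization (hmin : (minimalPrimes A).Finite)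
    (K : Type u) [CommRing K] [Algebra A K] [IsLocalization (nonZeroDivisors A) K] :
    IsArtinianRing K := by
  haveI : IsReduced K :=
    isReduced_localizationPreserves (nonZeroDivisors A) K inferInstance
  have hcomap : ∀ J : Ideal K, J.IsPrime → J.comap (algebraMap A K) ∈ minimalPrimes A := by
    intro J hJ
    obtain ⟨h1, h2⟩ := (IsLocalization.isPrime_iff_isPrime_disjoint (nonZeroDivisors A) K J).mp hJ
    haveI := h1
    exact mem_minimalPrimes_of_disjoint hmin _ h2.symm
  haveI : Ring.KrullDimLE 0 K := by
    apply Ring.KrullDimLE.mk₀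
    intro I hI
    obtain ⟨m, hm, hIm⟩ := Ideal.exists_le_maximal I hI.ne_top
    have h1 := hcomap I hI
    have h2 := hcomap m hm.isPrime
    have hle : I.comap (algebraMap A K) ≤ m.comap (algebraMap A K) := Ideal.comap_mono hIm
    have heq : I.comap (algebraMap A K) = m.comap (algebraMap A K) :=
      le_antisymm hle (h2.2 ⟨h1.1.1, bot_le⟩ hle)
    have : I = m := by
      rw [← IsLocalization.map_under (nonZeroDivisors A) K I,
        ← IsLocalization.map_under (nonZeroDivisors A) K m]
      exact congrArg (Ideal.map (algebraMap A K)) heq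
    rw [this]
    exact hm
  haveI : Finite (PrimeSpectrum K) := by
    haveI : Finite (minimalPrimes A) := hmin.to_subtype
    let g : PrimeSpectrum K → minimalPrimes A := fun p =>
      ⟨p.asIdeal.comap (algebraMap A K), hcomap p.asIdeal p.isPrime⟩
    apply Finite.of_injective g
    intro p p' hpp'
    have h : p.asIdeal.comap (algebraMap A K) = p'.asIdeal.comap (algebraMap A K) :=
      congrArg Subtype.val hpp'
    apply PrimeSpectrum.ext
    rw [← IsLocalization.map_under (nonZeroDivisors A) K p.asIdeal,
      ← IsLocalization.map_under (nonZeroDivisors A) K p'.asIdeal]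
    exact congrArg (Ideal.map (algebraMap A K)) h
  exact isArtinianRing_of_reduced_of_finite K

end Groth.Agent.H78.TotFrac
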