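import Mathlib
import Groth.Prelude.Def_EssEt
import Groth.Agent.H78.TotFrac.Artinian

/-!
# Total rings of fractions of essentially étale local algebras (S16448)
-/

set_option autoImplicit false

namespace Groth.Agent.H78.TotFrac

universe u

open IsLocalRing

section Abstract

variable (A E : Type u) [CommRing A] [IsReduced A] [CommRing E] [Algebra A E]

omit [IsReduced A] in
/-- images of non-zero-divisors under a flat map are non-zero-divisors -/
theorem map_nonZeroDivisors_le_of_flat [Module.Flat A E] :
    (nonZeroDivisors A).map (algebraMap A E) ≤ nonZeroDivisors E := by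
  rintro _ ⟨a, ha, rfl⟩
  have hreg : IsSMulRegular E a := Module.Flat.isSMulRegular_of_nonZeroDivisors ha
  rw [mem_nonZeroDivisors_iff_right]
  intro z hz
  apply hreg
  change a • z = a • 0
  rw [smul_zero, Algebra.smul_def, mul_comm]
  exact hz

/-- The localisation of a flat quasi-finite algebra over a reduced ring with finitely many minimal
primes at the non-zero-divisors of the base: it is Artinian and finite over the total ring of
fractions of the base. -/
theorem main_abstract (hmin : (minimalPrimes A).Finite) [Module.Flat A E]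
    [Algebra.QuasiFinite A E] :
    IsLocalization ((nonZeroDivisors A).map (algebraMap A E)) (FractionRing E) ∧
      ∃ t : Finset (FractionRing E), ∀ x : FractionRing E, ∃ a ∈ nonZeroDivisors A,
        algebraMap A (FractionRing E) a * x ∈ Submodule.span A (t : Set (FractionRing E)) := by
  classical
  set M : Submonoid E := (nonZeroDivisors A).map (algebraMap A E) with hMdef
  let L := Localization M
  let K := FractionRing A
  have hML : M ≤ nonZeroDivisors E := map_nonZeroDivisors_le_of_flat A E
  have hg : ∀ y : nonZeroDivisors A, IsUnit (algebraMap A L y) := by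
    intro y
    rw [IsScalarTower.algebraMap_apply A E L]
    exact IsLocalization.map_units L (⟨algebraMap A E y, ⟨y, y.2, rfl⟩⟩ : M)
  letI : Algebra K L := (IsLocalization.lift hg).toAlgebra
  haveI : IsScalarTower A K L := IsScalarTower.of_algebraMap_eq' (IsLocalization.lift_comp hg).symm
  haveI : Algebra.QuasiFinite A L := Algebra.QuasiFinite.of_isLocalization M
  haveI : Algebra.QuasiFinite K L := Algebra.QuasiFinite.of_restrictScalars A K L
  haveI : IsArtinianRing K := isArtinianRing_of_isLocalization hmin K
  haveI : Module.Finite K L := Module.Finite.of_quasiFinite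
  haveI : IsArtinianRing L := IsArtinianRing.of_finite K L
  have hunits : ∀ s ∈ nonZeroDivisors E, IsUnit (algebraMap E L s) := by
    intro s hs
    exact IsArtinianRing.isUnit_of_mem_nonZeroDivisors
      (IsLocalization.map_nonZeroDivisors_le M L ⟨s, hs, rfl⟩)
  haveI : IsLocalization (nonZeroDivisors E) L :=
    IsLocalization.of_le (M := M) (nonZeroDivisors E) hML hunits
  let θ : L ≃ₐ[E] FractionRing E := IsLocalization.algEquiv (nonZeroDivisors E) L (FractionRing E)
  refine ⟨IsLocalization.isLocalization_of_algEquiv M θ, ?_⟩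
  -- finiteness
  obtain ⟨G, hG⟩ := (Module.Finite.fg_top : (⊤ : Submodule K L).FG)
  have key : ∀ y : L, ∃ b ∈ nonZeroDivisors A, b • y ∈ Submodule.span A (G : Set L) := by
    intro y
    have hy : y ∈ Submodule.span K (G : Set L) := by rw [hG]; trivial
    induction hy using Submodule.span_induction with
    | mem y hy => exact ⟨1, Submonoid.one_mem _, by rw [one_smul]; exact Submodule.subset_span hy⟩
    | zero => exact ⟨1, Submonoid.one_mem _, by rw [smul_zero]; exact Submodule.zero_mem _⟩
    | add y₁ y₂ _ _ h₁ h₂ =>
      obtain ⟨b₁, hb₁, h₁⟩ := h₁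
      obtain ⟨b₂, hb₂, h₂⟩ := h₂
      refine ⟨b₁ * b₂, Submonoid.mul_mem _ hb₁ hb₂, ?_⟩
      have : (b₁ * b₂) • (y₁ + y₂) = b₂ • (b₁ • y₁) + b₁ • (b₂ • y₂) := by
        rw [smul_add, mul_smul, mul_smul, smul_comm b₁ b₂ y₁]
      rw [this]
      exact Submodule.add_mem _ (Submodule.smul_mem _ _ h₁) (Submodule.smul_mem _ _ h₂)
    | smul k y _ h =>
      obtain ⟨b, hb, h⟩ := h
      obtain ⟨a, b', hk⟩ := IsLocalization.exists_mk'_eq (nonZeroDivisors A) k
      refine ⟨b' * b, Submonoid.mul_mem _ b'.2 hb, ?_⟩
      have h1 : (b' : A) • k = algebraMap A K a := by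
        rw [← hk, Algebra.smul_def, mul_comm, IsLocalization.mk'_spec]
      have : ((b' : A) * b) • (k • y) = a • (b • y) := by
        rw [mul_smul, smul_comm b k y, ← smul_assoc ((b' : A)) k (b • y), h1, algebraMap_smul]
      rw [this]
      exact Submodule.smul_mem _ _ h
  refine ⟨G.image θ, ?_⟩
  intro x
  obtain ⟨b, hb, hbx⟩ := key (θ.symm x)
  refine ⟨b, hb, ?_⟩
  have h1 : algebraMap A (FractionRing E) b * x = (θ.toLinearMap.restrictScalars A) (b • θ.symm x) := by
    rw [map_smul]
    change _ = b • θ (θ.symm x)
    rw [AlgEquiv.apply_symm_apply, Algebra.smul_def]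
  rw [h1, Finset.coe_image]
  have h2 : (θ : L → FractionRing E) '' (G : Set L) =
      (θ.toLinearMap.restrictScalars A) '' (G : Set L) := rfl
  rw [h2, ← Submodule.map_span]
  exact Submodule.mem_map_of_mem hbx

end Abstract

/-- Essentially étale local algebras are flat and quasi-finite. -/
theorem flat_quasiFinite_of_isEssentiallyEtale (A E : Type u) [CommRing A] [IsLocalRing A]
    [CommRing E] [Algebra A E] (hE : EGA4loc.IsEssentiallyEtale A E) :
    Module.Flat A E ∧ Algebra.QuasiFinite A E := by
  obtain ⟨C, _, _, q, hq, hCet, hqcomap, ⟨eE⟩⟩ := hE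
  haveI : Module.Flat A C := inferInstance
  haveI : Module.Flat A (Localization.AtPrime q) := inferInstance
  haveI : Algebra.QuasiFinite A C := inferInstance
  haveI : Algebra.QuasiFinite A (Localization.AtPrime q) :=
    Algebra.QuasiFinite.of_isLocalization q.primeCompl
  exact ⟨Module.Flat.of_linearEquiv eE.toLinearEquiv,
    Algebra.QuasiFinite.of_surjective_algHom eE.symm.toAlgHom eE.symm.surjective⟩

/-- S16448 -/
theorem main
    (A E : Type u) [CommRing A] [IsLocalRing A] [IsReduced A] (hmin : (minimalPrimes A).Finite)
    [CommRing E] [Algebra A E]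
    (hE : EGA4loc.IsEssentiallyEtale A E) :
    IsLocalization ((nonZeroDivisors A).map (algebraMap A E)) (FractionRing E) ∧
      ∃ t : Finset (FractionRing E), ∀ x : FractionRing E, ∃ a ∈ nonZeroDivisors A,
        algebraMap A (FractionRing E) a * x ∈ Submodule.span A (t : Set (FractionRing E)) := by
  obtain ⟨h1, h2⟩ := flat_quasiFinite_of_isEssentiallyEtale A E hE
  exact main_abstract A E hmin

end Groth.Agent.H78.TotFrac
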