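import Mathlib
import Groth.Prelude.Def_EssEt
import Groth.Agent.H78.TotFrac.EssEt

/-!
# Intermediate rings of the total ring of fractions of an essentially étale local algebra (S16443)
-/

set_option autoImplicit false

namespace Groth.Agent.H78.TotFrac

universe u

open IsLocalRing

section Abstract

variable (A E : Type u) [CommRing A] [IsReduced A] [CommRing E] [Algebra A E]

/-- An intermediate ring between the total rings of fractions is closed under inverses of the
elements invertible in the big ring. -/
theorem exists_inv_mem (hmin : (minimalPrimes A).Finite) [Module.Flat A E]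
    [Algebra.QuasiFinite A E] (F : Type u) [CommRing F] [Algebra E F] [Algebra A F]
    [IsScalarTower A E F] [IsLocalization ((nonZeroDivisors A).map (algebraMap A E)) F]
    (L : Subalgebra A F)
    (hL : ∀ s ∈ nonZeroDivisors A, ∃ y ∈ L, algebraMap A F s * y = 1)
    (x : F) (hx : x ∈ L) (hxu : IsUnit x) : ∃ y ∈ L, x * y = 1 := by
  classical
  set M : Submonoid E := (nonZeroDivisors A).map (algebraMap A E) with hMdef
  let K := FractionRing A
  have hg : ∀ y : nonZeroDivisors A, IsUnit (algebraMap A F y) := by
    intro y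
    rw [IsScalarTower.algebraMap_apply A E F]
    exact IsLocalization.map_units F (⟨algebraMap A E y, ⟨y, y.2, rfl⟩⟩ : M)
  letI : Algebra K F := (IsLocalization.lift hg).toAlgebra
  haveI : IsScalarTower A K F := IsScalarTower.of_algebraMap_eq' (IsLocalization.lift_comp hg).symm
  haveI : Algebra.QuasiFinite A F := Algebra.QuasiFinite.of_isLocalization M
  haveI : Algebra.QuasiFinite K F := Algebra.QuasiFinite.of_restrictScalars A K F
  haveI : IsArtinianRing K := isArtinianRing_of_isLocalization hmin K
  haveI : Module.Finite K F := Module.Finite.of_quasiFinite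
  haveI : IsNoetherianRing K := inferInstance
  haveI : IsNoetherian K F := isNoetherian_of_isNoetherianRing_of_finite K F
  -- `L` as a `K`-subalgebra
  have hKmem : ∀ k : K, algebraMap K F k ∈ L := by
    intro k
    obtain ⟨a, b, rfl⟩ := IsLocalization.exists_mk'_eq (nonZeroDivisors A) k
    obtain ⟨y, hy, hby⟩ := hL b b.2
    have h1 : algebraMap K F (IsLocalization.mk' K a b) * algebraMap A F b = algebraMap A F a := by
      rw [IsScalarTower.algebraMap_apply A K F, IsScalarTower.algebraMap_apply A K F, ← map_mul,
        IsLocalization.mk'_spec]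
    have h2 : algebraMap K F (IsLocalization.mk' K a b) = algebraMap A F a * y := by
      rw [← h1, mul_assoc, hby, mul_one]
    rw [h2]
    exact L.mul_mem (L.algebraMap_mem a) hy
  let LK : Subalgebra K F :=
    { carrier := L
      mul_mem' := fun ha hb => L.mul_mem ha hb
      add_mem' := fun ha hb => L.add_mem ha hb
      algebraMap_mem' := hKmem }
  haveI : Module.Finite K LK := Module.Finite.of_injective LK.val.toLinearMap Subtype.val_injective
  haveI : IsArtinianRing LK := IsArtinianRing.of_finite K LK
  let x' : LK := ⟨x, hx⟩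
  have hx' : x' ∈ nonZeroDivisors LK := by
    rw [mem_nonZeroDivisors_iff_right]
    intro z hz
    have h1 : (z : F) * x = 0 := congrArg Subtype.val hz
    have h2 : (z : F) = 0 := hxu.mul_left_eq_zero.mp h1
    exact Subtype.ext h2
  obtain ⟨y', hy'⟩ := (IsArtinianRing.isUnit_of_mem_nonZeroDivisors hx').exists_right_inv
  exact ⟨y', y'.2, congrArg Subtype.val hy'⟩

end Abstract

/-- S16443 -/
theorem main_sub
    (A E : Type u) [CommRing A] [IsLocalRing A] [IsReduced A] (hmin : (minimalPrimes A).Finite)
    [CommRing E] [IsLocalRing E] [Algebra A E]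
    (hE : EGA4loc.IsEssentiallyEtale A E) (L : Subalgebra A (FractionRing E))
    (hL : ∀ s ∈ nonZeroDivisors A, ∃ y ∈ L, algebraMap A (FractionRing E) s * y = 1) :
    ∃ D : Subalgebra A E,
      (D : Set E) = (algebraMap E (FractionRing E)) ⁻¹' (L : Set (FractionRing E)) ∧
      ∃ _ : IsLocalRing D, IsLocalHom (algebraMap D E) ∧
        ∀ l ∈ L, ∃ d ∈ D, ∃ s ∈ nonZeroDivisors A, ∃ y ∈ L,
          algebraMap A (FractionRing E) s * y = 1 ∧ l = algebraMap E (FractionRing E) d * y := by
  obtain ⟨hflat, hqf⟩ := flat_quasiFinite_of_isEssentiallyEtale A E hE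
  haveI hloc : IsLocalization ((nonZeroDivisors A).map (algebraMap A E)) (FractionRing E) :=
    (main_abstract A E hmin).1
  let D : Subalgebra A E := L.comap (IsScalarTower.toAlgHom A E (FractionRing E))
  have hDmem : ∀ e : E, e ∈ D ↔ algebraMap E (FractionRing E) e ∈ L := fun e => Iff.rfl
  have hlocal : IsLocalHom (algebraMap D E) := by
    constructor
    intro d hd
    have hd' : IsUnit ((d : D) : E) := hd
    obtain ⟨u, hu⟩ := hd'
    have hxu : IsUnit (algebraMap E (FractionRing E) (d : E)) := by
      rw [← hu]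
      exact u.isUnit.map _
    obtain ⟨y, hy, hxy⟩ := exists_inv_mem A E hmin (FractionRing E) L hL _ ((hDmem _).mp d.2) hxu
    have hinv : algebraMap E (FractionRing E) ((u⁻¹ : Eˣ) : E) = y := by
      have h1 : algebraMap E (FractionRing E) (d : E) *
          algebraMap E (FractionRing E) ((u⁻¹ : Eˣ) : E) = 1 := by
        rw [← map_mul, ← hu, Units.mul_inv, map_one]
      exact hxu.mul_left_cancel (h1.trans hxy.symm)
    have hmemD : ((u⁻¹ : Eˣ) : E) ∈ D := by
      rw [hDmem, hinv]
      exact hy
    refine ⟨⟨d, ⟨_, hmemD⟩, ?_, ?_⟩, rfl⟩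
    · apply Subtype.ext
      change (d : E) * ((u⁻¹ : Eˣ) : E) = 1
      rw [← hu, Units.mul_inv]
    · apply Subtype.ext
      change ((u⁻¹ : Eˣ) : E) * (d : E) = 1
      rw [← hu, Units.inv_mul]
  haveI := hlocal
  have hDlocal : IsLocalRing D := RingHom.domain_isLocalRing (algebraMap D E)
  refine ⟨D, rfl, hDlocal, hlocal, ?_⟩
  intro l hl
  obtain ⟨e, m, rfl⟩ := IsLocalization.exists_mk'_eq
    ((nonZeroDivisors A).map (algebraMap A E)) l
  obtain ⟨s, hs, hsm⟩ := m.2
  obtain ⟨y, hy, hsy⟩ := hL s hs
  have h1 : IsLocalization.mk' (FractionRing E) e m * algebraMap A (FractionRing E) s =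
      algebraMap E (FractionRing E) e := by
    rw [IsScalarTower.algebraMap_apply A E (FractionRing E)]
    have : algebraMap A E s = (m : E) := hsm
    rw [this, IsLocalization.mk'_spec]
  refine ⟨e, ?_, s, hs, y, hy, hsy, ?_⟩
  · rw [hDmem, ← h1]
    exact L.mul_mem hl (L.algebraMap_mem s)
  · rw [← h1, mul_assoc, hsy, mul_one]

end Groth.Agent.H78.TotFrac
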